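import Groth.Agent.AVBiextLib.Lambda
import Groth.Agent.AVAmpleLib.RelMul
import Groth.Agent.DualLftLib.Sep
import Groth.Agent.MonoQuotLib.Orbit
import Groth.Agent.WeilResLib.Maps
import Groth.Agent.S12442

/-!
The map of a rigidified line bundle under base change, and the locus where it is divisible by an integer.
-/

set_option autoImplicit false
set_option maxHeartbeats 1600000
set_option maxRecDepth 8000
set_option backward.isDefEq.respectTransparency false
set_option linter.style.haveILetI false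
set_option linter.unusedSectionVars false

noncomputable section

universe u

open CategoryTheory CategoryTheory.Limits MonoidalCategory CartesianMonoidalCategory MonObj AlgebraicGeometry
open CubeConsLib AVBiextLib AVIndexLib

namespace DivLocusLib

variable {S : Scheme.{u}} {A At : Over S} [GrpObj A] [IsProper A.hom] [Smooth A.hom] [GeometricallyConnected A.hom]
  [GrpObj At] {φ : AgPol.DualMap A At} (hdual : AbDual.IsDualAV Scheme.fppfPrecoverage A At φ)
  {L : A.left.Modules} (hL : PicF.IsInvertible L)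

/-- The invertible module pulled back to a base change. -/
abbrev LT {T : Scheme.{u}} (t : T ⟶ S) (L : A.left.Modules) : (Red.bc t A).left.Modules :=
  (Scheme.Modules.pullback (pullback.fst A.hom t)).obj L

include hL in
theorem isInvertible_LT {T : Scheme.{u}} (t : T ⟶ S) : PicF.IsInvertible (LT t L) :=
  AmpleDevLib.isInvertible_pb _ hL

/-- The data of the module of a line bundle. -/
structure IsMumford {L : A.left.Modules} (hL : PicF.IsInvertible L) (N : (PicF.XT A.hom A).Modules) : Prop where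
  inv : PicF.IsInvertible N
  eq : (clA inv : PicA (A ⊗ A).left) = P hL (fst A A * snd A A) - P hL (fst A A) - P hL (snd A A)

theorem exists_isMumford : ∃ N, IsMumford hL N := by
  have g1 := AmpleDevLib.isInvertible_pb (fst A A * snd A A).left hL
  have g2 := AmpleDevLib.isInvertible_pb (fst A A).left hL
  have g3 := AmpleDevLib.isInvertible_pb (snd A A).left hL
  obtain ⟨D, hD, cD⟩ := exists_sub' g1 g2
  obtain ⟨N, hN, cN⟩ := exists_sub' hD g3
  exact ⟨N, hN, by rw [P_eq, P_eq, P_eq]; exact cN.trans (by rw [cD])⟩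

variable {N : (PicF.XT A.hom A).Modules} (hM : IsMumford hL N)

include hM in
theorem ev2_N {V : Over S} (x y : V ⟶ A) :
    ev2 (clA hM.inv : PicA (A ⊗ A).left) x y = P hL (x * y) - P hL x - P hL y := by
  rw [ev2, hM.eq, map_sub, map_sub, pullA_P, pullA_P, pullA_P, MonObj.comp_mul, lift_fst, lift_snd]

include hM in
theorem bc2_N {T : Scheme.{u}} (t : T ⟶ S) :
    bc2 t (clA hM.inv : PicA (A ⊗ A).left) =
      P (isInvertible_LT hL t) (fst (Red.bc t A) (Red.bc t A) * snd _ _) - P (isInvertible_LT hL t) (fst _ _) -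
        P (isInvertible_LT hL t) (snd _ _) := by
  rw [← ev2_id (bc2 t _), ev2_bc2, ev2_N hL hM, ← toDn_mul, P, P, P, P, P, P, ← pullA_clA _ hL,
    pullA_comp, pullA_comp, pullA_comp, toDn_left, toDn_left, toDn_left]
  rfl

include hM in
theorem isPicZeroCl_N : AbDual.IsPicZeroCl A.hom A (PicF.cl N) := by
  haveI := AbSchLib.geometricallyReduced_of_smooth A.hom
  haveI := CubeConsLib.geometricallyIntegral_of_group A
  refine isPicZeroCl_of_geometric hM.inv fun K _ _ t => ?_
  haveI : IsProper (Red.bc t A).hom := MorphismProperty.pullback_snd (P := @IsProper) _ _ ‹_›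
  haveI : GeometricallyIntegral (Red.bc t A).hom :=
    inferInstanceAs (GeometricallyIntegral (Limits.pullback.snd A.hom t))
  exact isPicZeroCl_mumford (isInvertible_LT hL t) (hΛ := AmpleDevLib.isInvertible_pb (p2 t A).left hM.inv)
    ((pullA_clA _ hM.inv).symm.trans (bc2_N hL hM t))

/-- The map of a line bundle to the dual. -/
abbrev phiL (φ : AgPol.DualMap A At) (N : (PicF.XT A.hom A).Modules) : A ⟶ At := φ A (PicF.cl N)

include hdual hM in
theorem isLambda_iff {T : Scheme.{u}} (t : T ⟶ S) (l : Red.bc t A ⟶ Red.bc t At) :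
    AgPol.IsLambda (Red.bc t A) (Red.bc t At) (AgPol.bcDual t A At φ) (LT t L) l ↔
      l = (Over.pullback t).map (phiL φ N) := by
  let B := Red.bc t A
  have g1 := AmpleDevLib.isInvertible_pb (fst B B).left (isInvertible_LT hL t)
  have g2 := AmpleDevLib.isInvertible_pb (snd B B).left (isInvertible_LT hL t)
  have g3 := AmpleDevLib.isInvertible_pb (μ[B] : B ⊗ B ⟶ B).left (isInvertible_LT hL t)
  have hiff : ∀ {N' : (B ⊗ B).left.Modules} (hN' : PicF.IsInvertible N'),
      AgPol.IsLambdaSheaf (μ[B] : B ⊗ B ⟶ B).left (fst B B).left (snd B B).left (LT t L) N' ↔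
        (clA hN' : PicA (B ⊗ B).left) = bc2 t (clA hM.inv : PicA (A ⊗ A).left) := by
    intro N' hN'
    unfold AgPol.IsLambdaSheaf
    rw [← clA_eq_iff (HilbPolyLib.isInvertible_tensor (HilbPolyLib.isInvertible_tensor hN' g1) g2) g3,
      clA_tensor (HilbPolyLib.isInvertible_tensor hN' g1) g2, clA_tensor hN' g1, bc2_N hL hM t, P_eq, P_eq, P_eq]
    have hμ : (μ[B] : B ⊗ B ⟶ B) = fst B B * snd B B := by rw [Hom.mul_def, lift_fst_snd, Category.id_comp]
    have e3 : clA g3 = clA (AmpleDevLib.isInvertible_pb (fst B B * snd B B).left (isInvertible_LT hL t)) := by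
      rw [← P_eq (isInvertible_LT hL t), ← P_eq (isInvertible_LT hL t), hμ]
    rw [e3]
    constructor
    · intro h
      rw [← h]
      abel
    · intro h
      rw [h]
      abel
  have hp := AmpleDevLib.isInvertible_pb (p2 t A).left hM.inv
  have hval := toDn_phi_bc2 t hdual (isPicZeroCl_N hL hM)
  constructor
  · rintro ⟨N', hN', hiso, rfl⟩
    obtain ⟨i⟩ := (clA_eq_iff (show PicF.IsInvertible (show (B ⊗ B).left.Modules from N') from hN') hp).1
      (((hiff hN').1 hiso).trans (pullA_clA _ hM.inv))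
    rw [← hval]
    exact congrArg _ (Quot.sound ⟨i⟩)
  · rintro rfl
    exact ⟨_, hp, (hiff hp).2 (pullA_clA _ hM.inv).symm, hval⟩

include hdual hM in
theorem isMonHom_phiL [IsCommMonObj A]
    (hrig : pullA η[A].left (clA hL) = 0) : IsMonHom (phiL φ N) := by
  haveI := AbSchLib.geometricallyReduced_of_smooth A.hom
  haveI := CubeConsLib.geometricallyIntegral_of_group A
  haveI : LocallyOfFinitePresentation A.hom := inferInstance
  haveI : IsSeparated At.hom := DualLftLib.isSeparated_of_isRelPicZeroK A.hom hdual.relPic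
  refine H0Lib.isMonHom_of_one_comp _ ?_
  have hE := AmpleDevLib.isInvertible_pb (PicF.XTmap A.hom η[A]) hM.inv
  rw [← hdual.relPic.natural _ _ η[A] _ (isPicZeroCl_N hL hM)]
  refine Eq.trans ?_ ((phi_structure hdual _).trans ?_)
  · have e : PicF.XTmap A.hom η[A] = (lift (fst A (𝟙_ (Over S))) (snd A (𝟙_ (Over S)) ≫ η[A])).left := by
      apply Limits.pullback.hom_ext
      · exact (XTmap_fst A.hom _).trans (congrArg Over.Hom.left (lift_fst (fst A (𝟙_ (Over S))) (snd A _ ≫ η[A]))).symm
      · exact (XTmap_snd A.hom _).trans (congrArg Over.Hom.left (lift_snd (fst A (𝟙_ (Over S))) (snd A _ ≫ η[A]))).symm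
    have h1 : (snd A (𝟙_ (Over S)) ≫ η[A]) = 1 := by
      rw [toUnit_unique (snd A (𝟙_ _)) (toUnit _), ← Hom.one_def]
    have h0 : clA hE = 0 := by
      rw [← pullA_clA _ hM.inv, e]
      show ev2 (clA hM.inv : PicA (A ⊗ A).left) (fst A _) (snd A (𝟙_ (Over S)) ≫ η[A]) = 0
      rw [ev2_N hL hM, h1, _root_.mul_one, sub_self, zero_sub, neg_eq_zero, P_one, hrig, map_zero]
    rw [← clA_one, clA_eq_iff] at h0
    exact congrArg _ (Quot.sound h0)
  · rw [Hom.one_def, toUnit_unique (toUnit _) (𝟙 _), Category.id_comp]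

section Kill

variable (f : A ⟶ At) (n : ℕ)

/-- The base change of `f` kills the points killed by `n`. -/
def Kills {T : Scheme.{u}} (t : T ⟶ S) : Prop :=
  ∀ (V : Over T) (x : V ⟶ Red.bc t A), x ^ n = 1 → x ≫ (Over.pullback t).map f = 1

variable [IsMonHom f]

theorem toDn_comp_map {T : Scheme.{u}} (t : T ⟶ S) {V : Over T} (x : V ⟶ Red.bc t A) :
    toDn t (x ≫ (Over.pullback t).map f) = toDn t x ≫ f := by
  rw [toDn_comp, toDn_bc_map, ← Category.assoc, ← toDn_id t A, ← toDn_comp, Category.comp_id]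

theorem kills_of_root {T : Scheme.{u}} (t : T ⟶ S) (lam : Red.bc t A ⟶ Red.bc t At) [IsMonHom lam]
    (h : lam ^ n = (Over.pullback t).map f) : Kills f n t := fun V x hx => by
  rw [← h, MonObj.comp_pow, ← monHom_pow, hx, MonObj.one_comp]

theorem map_pow_id {T : Scheme.{u}} (t : T ⟶ S) :
    (Over.pullback t).map (𝟙 A ^ n) = 𝟙 (Red.bc t A) ^ n := by
  refine ((Over.pullback t).homMonoidHom.map_pow (𝟙 A) n).trans ?_
  simp [Functor.homMonoidHom]

variable [IsCommMonObj A] (hn : n ≠ 0)

include hn in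
theorem mulN_props : IsFinite (𝟙 A ^ n).left ∧ Flat (𝟙 A ^ n).left ∧ Surjective (𝟙 A ^ n).left ∧
    LocallyOfFinitePresentation (𝟙 A ^ n).left := by
  haveI := AbSchLib.geometricallyReduced_of_smooth A.hom
  haveI := CubeConsLib.geometricallyIntegral_of_group A
  obtain ⟨h1, h2, h3, -⟩ := AVAmpleLib.zpow_rel A (n := (n : ℤ)) (Int.natCast_ne_zero.2 hn)
  rw [zpow_natCast] at h1 h2 h3
  haveI : LocallyOfFinitePresentation ((𝟙 A ^ n).left ≫ A.hom) := by rw [Over.w]; infer_instance
  exact ⟨h1, h2, h3, Groth.Agent.S12442.lfp_of_comp_lft (𝟙 A ^ n).left A.hom⟩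

include hn in
theorem mulN_bc {T : Scheme.{u}} (t : T ⟶ S) :
    Flat (𝟙 (Red.bc t A) ^ n).left ∧ Surjective (𝟙 (Red.bc t A) ^ n).left ∧
      LocallyOfFinitePresentation (𝟙 (Red.bc t A) ^ n).left := by
  haveI := AbSchLib.geometricallyReduced_of_smooth A.hom
  haveI := CubeConsLib.geometricallyIntegral_of_group A
  obtain ⟨-, h2, h3, h4⟩ := mulN_props (A := A) n hn
  rw [← map_pow_id]
  have sq := AVAmpleLib.isPullback_fibre A t (𝟙 A ^ n)
  exact ⟨MorphismProperty.of_isPullback sq h2, MorphismProperty.of_isPullback sq h3,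
    MorphismProperty.of_isPullback sq h4⟩

variable [IsCommMonObj At]

include hn in
theorem root_unique {T : Scheme.{u}} (t : T ⟶ S) (l l' : Red.bc t A ⟶ Red.bc t At)
    (h : (𝟙 (Red.bc t A) ^ n) ≫ l = (𝟙 (Red.bc t A) ^ n) ≫ l') : l = l' := by
  obtain ⟨h1, h2, h3⟩ := mulN_bc (A := A) n hn t
  haveI := h1; haveI := h2; haveI := h3
  haveI : Epi (𝟙 (Red.bc t A) ^ n) := Groth.Agent.MonoQuot.epi_over _
  exact (cancel_epi _).1 h

include hn in
/-- A map killing the points killed by `n` is divisible by `n`. -/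
theorem exists_root {T : Scheme.{u}} (t : T ⟶ S) (h : Kills f n t) :
    ∃ lam : Red.bc t A ⟶ Red.bc t At, IsMonHom lam ∧ lam ^ n = (Over.pullback t).map f := by
  haveI : IsCommMonObj (Red.bc t A) := Functor.isCommMonObj_obj (F := Over.pullback t)
  obtain ⟨h1, h2, h3⟩ := mulN_bc (A := A) n hn t
  let m := 𝟙 (Red.bc t A) ^ n
  let g := (Over.pullback t).map f
  haveI : Flat m.left := h1
  haveI : Surjective m.left := h2
  haveI : LocallyOfFinitePresentation m.left := h3
  have hm : ∀ {V : Over T} (x : V ⟶ Red.bc t A), x ≫ m = x ^ n := fun x => by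
    rw [MonObj.comp_pow, Category.comp_id]
  haveI : IsMonHom g := inferInstanceAs (IsMonHom ((Over.pullback t).map f))
  obtain ⟨lam, hlam⟩ := Groth.Agent.MonoQuot.exists_desc_over m g fun V a b hab => by
    rw [hm, hm] at hab
    have := h V (a * b⁻¹) (by rw [mul_pow, inv_pow, hab, mul_inv_cancel])
    rw [MonObj.mul_comp, GrpObj.inv_comp, mul_inv_eq_one] at this
    exact this
  haveI : Epi m := Groth.Agent.MonoQuot.epi_over m
  haveI : IsMonHom m := by
    show IsMonHom (𝟙 (Red.bc t A) ^ n)
    rw [← zpow_natCast]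
    exact AbSchLib.isMonHom_zpow (Red.bc t A) (n : ℤ)
  have hlm : IsMonHom lam := by
    constructor
    · rw [← IsMonHom.one_hom (f := m), Category.assoc, hlam, IsMonHom.one_hom]
    · obtain ⟨h1, h2, h3⟩ := Groth.Agent.MonoQuot.fppf_tensor m m
      haveI := h1; haveI := h2; haveI := h3
      haveI : Epi (m ⊗ₘ m) := Groth.Agent.MonoQuot.epi_over (m ⊗ₘ m)
      rw [← cancel_epi (m ⊗ₘ m), ← Category.assoc, ← IsMonHom.mul_hom (f := m), Category.assoc, hlam,
        IsMonHom.mul_hom, ← Category.assoc (m ⊗ₘ m), tensorHom_comp_tensorHom, hlam]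
  haveI := hlm
  refine ⟨lam, hlm, ?_⟩
  exact ((monHom_pow lam (𝟙 _) n).trans (by rw [Category.id_comp])).symm.trans hlam

include hn in
/-- The locus where `f` kills the points killed by `n` is a closed subscheme. -/
theorem exists_kills_locus [IsSeparated At.hom] :
    ∃ (Z : Scheme.{u}) (i : Z ⟶ S), IsClosedImmersion i ∧
      ∀ (T : Scheme.{u}) (t : T ⟶ S), (∃ h : T ⟶ Z, h ≫ i = t) ↔ Kills f n t := by
  obtain ⟨hf1, hf2, -, hf4⟩ := mulN_props (A := A) n hn
  let m := 𝟙 A ^ n
  let e : 𝟙_ (Over S) ⟶ A := η[A]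
  haveI : IsFinite m.left := hf1
  haveI : Flat m.left := hf2
  haveI : LocallyOfFinitePresentation m.left := hf4
  let K : Over S := Over.mk (pullback.snd m.left e.left)
  let kι : K ⟶ A := Over.homMk (pullback.fst m.left e.left) (by
    show pullback.fst m.left e.left ≫ A.hom = pullback.snd m.left e.left
    rw [← Over.w m, pullback.condition_assoc, Over.w e]
    exact Category.comp_id _)
  haveI : IsFinite K.hom := inferInstanceAs (IsFinite (pullback.snd m.left e.left))
  haveI : Flat K.hom := inferInstanceAs (Flat (pullback.snd m.left e.left))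
  haveI : LocallyOfFinitePresentation K.hom :=
    inferInstanceAs (LocallyOfFinitePresentation (pullback.snd m.left e.left))
  have hkι : kι ^ n = 1 := by
    have : kι ≫ m = 1 := by
      ext1
      show pullback.fst m.left e.left ≫ m.left = (toUnit K).left ≫ e.left
      rw [pullback.condition]
      rfl
    rwa [MonObj.comp_pow, Category.comp_id] at this
  have hlift : ∀ {V : Over S} (x : V ⟶ A), x ^ n = 1 → ∃ l : V ⟶ K, l ≫ kι = x := fun {V} x hx => by
    refine ⟨Over.homMk (pullback.lift x.left V.hom ?_) (pullback.lift_snd _ _ _),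
      Over.OverMorphism.ext (pullback.lift_fst _ _ _)⟩
    exact congrArg CommaMorphism.left (show x ≫ m = 1 by rw [MonObj.comp_pow, Category.comp_id, hx])
  obtain ⟨Z, z, hz, hzf, -⟩ := Groth.Agent.WeilRes.exists_eqLocus_essFree (snd (𝟙_ (Over S)) K ≫ kι ≫ f)
    (1 : 𝟙_ (Over S) ⊗ K ⟶ At) (Groth.Agent.WeilRes.isEssentiallyFree_of_finite_flat K.hom)
  haveI := hz
  refine ⟨Z.left, z.left, hz, fun T t => ?_⟩
  let T₀ : Over S := Over.mk t
  have hpt : (∃ h : T ⟶ Z.left, h ≫ z.left = t) ↔ ∃ w : T₀ ⟶ Z, w ≫ z = toUnit T₀ := by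
    constructor
    · rintro ⟨h, hh⟩
      have hz' : z.left = Z.hom := (Category.comp_id _).symm.trans (Over.w z)
      exact ⟨Over.homMk h (by rw [← hz']; exact hh), toUnit_unique _ _⟩
    · rintro ⟨w, hw⟩
      exact ⟨w.left, (congrArg Over.Hom.left hw).trans (by rfl)⟩
  rw [hpt, hzf]
  constructor
  · intro h V x hx
    refine toDn_injective t ?_
    rw [toDn_comp_map, toDn_one]
    obtain ⟨l, hl⟩ := hlift (toDn t x) (by rw [← toDn_pow, hx, toDn_one])
    have h' := h (dn t V) (Over.homMk V.hom rfl) l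
    simp only [lift_snd_assoc, MonObj.comp_one] at h'
    rw [← hl, Category.assoc]
    exact h'
  · intro h W s x
    simp only [lift_snd_assoc, MonObj.comp_one]
    let V : Over T := Over.mk s.left
    let j : dn t V ⟶ W := Over.homMk (𝟙 W.left) (by
      show 𝟙 W.left ≫ W.hom = s.left ≫ t
      rw [Category.id_comp]; exact (Over.w s).symm)
    let g : V ⟶ Red.bc t A := diagBc t V ≫ (Over.pullback t).map (j ≫ x ≫ kι)
    have hg : toDn t g = j ≫ x ≫ kι := toDn_diag_map t _
    have hgn : g ^ n = 1 := toDn_injective t (by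
      rw [toDn_pow, toDn_one, hg, ← MonObj.comp_pow, ← MonObj.comp_pow, hkι, MonObj.comp_one, MonObj.comp_one])
    have h' := congrArg (toDn t) (h V g hgn)
    rw [toDn_comp_map, toDn_one, hg, Category.assoc, Category.assoc] at h'
    haveI : IsIso j.left := inferInstanceAs (IsIso (𝟙 W.left))
    haveI : IsIso j := by have : IsIso ((Over.forget S).map j) := ‹IsIso j.left›; exact isIso_of_reflects_iso j (Over.forget S)
    rw [← cancel_epi j, h', MonObj.comp_one]

end Kill

end DivLocusLib

end
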