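import Groth.Agent.SeesawLib.Main
import Groth.Agent.CubeLib.Clopen
import Groth.Agent.MiscFlat6.InvDual
import Groth.Agent.CubeConsLib.PicSep
import Groth.Agent.CubeConsLib.Hom

/-!
The locus where a rigidified line bundle on a proper flat family is trivial.
-/

set_option autoImplicit false
set_option maxHeartbeats 1000000
set_option maxRecDepth 8000
set_option backward.isDefEq.respectTransparency false
set_option linter.style.haveILetI false

noncomputable section

universe u

open CategoryTheory CategoryTheory.Limits AlgebraicGeometry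
open CubeConsLib

namespace DivLocusLib

variable {X S : Scheme.{u}} (f : X ⟶ S) [IsProper f] [Flat f] [GeometricallyIntegral f]
  [LocallyOfFinitePresentation f] (σ : S ⟶ X) (hσ : σ ≫ f = 𝟙 S) {D : X.Modules} (hD : PicF.IsInvertible D)

include hσ hD in
/-- The trivial locus of a rigidified invertible module is a closed subscheme. -/
theorem exists_trivial_locus (h : pullA σ (clA hD) = 0) :
    ∃ (Z : Scheme.{u}) (ι : Z ⟶ S), IsClosedImmersion ι ∧
      ∀ (T : Scheme.{u}) (u : T ⟶ S), (∃ u' : T ⟶ Z, u' ≫ ι = u) ↔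
        pullA (pullback.fst f u) (clA hD) = 0 := by
  have hD1 := (CohCmpLib.invertible_iff_rank_one D).1 hD
  obtain ⟨Z, ι, hι, -, -, hiff, hrange⟩ := SeesawLib.exists_seesaw (CubeLib.univO_of_geometricallyIntegral f)
    (fun s => inferInstance) (SeesawLib.isFinLocFree_of_rank hD1)
  have hset : Set.range ι = {s : S | Nonempty (CohIII.fiberMod f D s ≅ Coh.structureModule (f.fiber s))} := by
    rw [hrange]
    refine Set.ext fun s => ⟨fun ⟨n, ⟨a⟩⟩ => ?_, fun ⟨t⟩ =>
      ⟨1, ⟨t ≪≫ (Limits.coproductUniqueIso fun _ : Fin 1 => Coh.structureModule (f.fiber s)).symm⟩⟩⟩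
    obtain ⟨x⟩ : Nonempty (f.fiber s) := inferInstance
    have h1 : n = 1 := SeesawLib.rankSet_unique (SeesawLib.rankSet_of_iso a.symm (SeesawLib.rankSet_freeMod _ n x))
      (SeesawLib.rankSet_of_rank (SeesawLib.isFinLocFreeOfRank_pullback (f.fiberι s) hD1) x)
    subst h1
    exact ⟨a ≪≫ Limits.coproductUniqueIso fun _ : Fin 1 => Coh.structureModule (f.fiber s)⟩
  have hcl : IsClosed (Set.range ι) := hset ▸ isClosed_trivial_fibre f hD
  refine ⟨Z, ι, IsClosedImmersion.of_isPreimmersion ι hcl, fun T u => (hiff T u).trans ⟨?_, fun he => ?_⟩⟩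
  · rintro ⟨M, hM1, ⟨e⟩⟩
    have hM : PicF.IsInvertible M := by
      refine (CohCmpLib.invertible_iff_rank_one M).2 fun t => ?_
      obtain ⟨U, n, htU, ⟨b⟩⟩ := hM1 t
      obtain ⟨w, hw⟩ := (pullback.snd f u).surjective t
      have ht : t ∈ SeesawLib.RankSet M n := by
        refine (SeesawLib.mem_rankSet_pullback_iff hM1 U.ι ⟨t, htU⟩ n).1 ?_
        exact SeesawLib.rankSet_of_iso (b.symm ≪≫ (Scheme.Modules.restrictFunctorIsoPullback U.ι).app M)
          (SeesawLib.rankSet_freeMod _ _ _)
      have h1 : w ∈ SeesawLib.RankSet ((Scheme.Modules.pullback (pullback.snd f u)).obj M) n :=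
        (SeesawLib.mem_rankSet_pullback_iff hM1 _ w n).2 (hw.symm ▸ ht)
      obtain rfl := SeesawLib.rankSet_unique (SeesawLib.rankSet_of_iso e.symm h1)
        (SeesawLib.rankSet_of_rank (SeesawLib.isFinLocFreeOfRank_pullback (pullback.fst f u) hD1) w)
      exact ⟨U, htU, ⟨b⟩⟩
    have e' : pullA (pullback.fst f u) (clA hD) = pullA (pullback.snd f u) (clA hM) := by
      rw [pullA_clA, pullA_clA, clA_eq_iff]
      exact ⟨e⟩
    let s : T ⟶ pullback f u := pullback.lift (u ≫ σ) (𝟙 T) (by
      rw [Category.assoc, hσ, Category.comp_id, Category.id_comp])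
    have e2 := congrArg (pullA s) e'
    rw [pullA_comp, pullA_comp, pullback.lift_fst, pullback.lift_snd, pullA_id, ← pullA_comp, h, map_zero] at e2
    rw [e', ← e2, map_zero]
  · refine ⟨Coh.structureModule T, SeesawLib.isFinLocFree_of_rank (CohCmpLib.rank_one_structureModule _), ?_⟩
    rw [← clA_eq_iff (AmpleDevLib.isInvertible_pb _ hD) (AmpleDevLib.isInvertible_pb _ (isInvertible_one _)),
      ← pullA_clA _ hD, ← pullA_clA _ (isInvertible_one _), clA_one, map_zero]
    exact he

end DivLocusLib
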